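import Groth.Agent.Growth22.BertLin.Quot

/-!
# Generic members of a base point free linear system on a smooth affine chart, characteristic zero
-/

open TensorProduct KaehlerDifferential MvPolynomial

universe u

namespace Groth.Agent.Growth22.BertLin

variable {k : Type u} [Field k] [CharZero k]

/-- The differentials of algebraically independent elements stay independent in a finitely generated field. -/
theorem linearIndependent_D {σ : Type u} [Finite σ] {κ : Type u} [Field κ] [Algebra k κ] [Algebra.EssFiniteType k κ]
    (ψ : MvPolynomial σ k →ₐ[k] κ) (hψ : Function.Injective ψ) :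
    LinearIndependent κ fun i => D k κ (ψ (MvPolynomial.X i)) := by
  let K := FractionRing (MvPolynomial σ k)
  let ψK : K →ₐ[k] κ := IsFractionRing.liftAlgHom (K := K) (g := ψ) hψ
  letI : Algebra K κ := ψK.toRingHom.toAlgebra
  haveI : IsScalarTower k K κ := IsScalarTower.of_algebraMap_eq' ψK.comp_algebraMap.symm
  haveI : CharZero K := charZero_of_injective_algebraMap (FaithfulSMul.algebraMap_injective k K)
  haveI : Algebra.EssFiniteType K κ := Algebra.EssFiniteType.of_comp k K κ
  haveI : Algebra.FormallyEtale (MvPolynomial σ k) K :=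
    Algebra.FormallyEtale.of_isLocalization (nonZeroDivisors _)
  let bK : Module.Basis σ K Ω[K⁄k] := ((KaehlerDifferential.mvPolynomialBasis k σ).baseChange K).map
    (tensorKaehlerEquivOfFormallyEtale k (MvPolynomial σ k) K)
  have hbK : ∀ i, bK i = D k K (algebraMap (MvPolynomial σ k) K (MvPolynomial.X i)) := fun i => by
    simp [bK]
  let bκ := bK.baseChange κ
  have hinj : Function.Injective (mapBaseChange k K κ) := by
    rw [injective_iff_map_eq_zero]
    intro z hz
    obtain ⟨w, rfl⟩ := (Algebra.H1Cotangent.exact_δ_mapBaseChange k K κ z).1 hz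
    rw [Subsingleton.elim w 0, map_zero]
  have := bκ.linearIndependent.map' (mapBaseChange k K κ) (LinearMap.ker_eq_bot.2 hinj)
  have heq : (fun i => D k κ (ψ (MvPolynomial.X i))) = ⇑(mapBaseChange k K κ) ∘ ⇑bκ := by
    funext i
    simp only [Function.comp_apply, bκ, Module.Basis.baseChange_apply, hbK, mapBaseChange_tmul, one_smul, map_D]
    congr 1
    exact (IsFractionRing.lift_algebraMap hψ (MvPolynomial.X i)).symm
  rw [heq]
  exact this

variable {B : Type u} [CommRing B] [Algebra k B] [Algebra.FiniteType k B]

/-- For sections without common zero, the general combination is transversal to zero. -/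
theorem exists_poly_of_generated [Module.Free B Ω[B⁄k]] [Module.Finite B Ω[B⁄k]] {σ : Type u} [Fintype σ] (x : σ → B)
    (hx : Ideal.span (Set.range x) = ⊤) :
    ∃ g : MvPolynomial σ k, g ≠ 0 ∧ ∀ c : σ → k, MvPolynomial.eval c g ≠ 0 →
      Ideal.span {∑ i, c i • x i} ⊔ diffIdeal k (∑ i, c i • x i) = ⊤ := by
  classical
  let b := Module.Free.chooseBasis B Ω[B⁄k]
  let ι := Module.Free.ChooseBasisIndex B Ω[B⁄k]
  let F : (MvPolynomial σ B) := ∑ i, MvPolynomial.C (x i) * MvPolynomial.X i
  let G : ι → (MvPolynomial σ B) := fun j => ∑ i, MvPolynomial.C (b.repr (D k B (x i)) j) * MvPolynomial.X i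
  let J : Ideal (MvPolynomial σ B) := Ideal.span (insert F (Set.range G))
  let φ : MvPolynomial σ k →ₐ[k] (MvPolynomial σ B) := MvPolynomial.aeval fun i => (MvPolynomial.X i : MvPolynomial σ B)
  obtain ⟨g, hg0, hg⟩ : ∃ g : MvPolynomial σ k, g ≠ 0 ∧ φ g ∈ J := by
    by_contra! hall
    obtain ⟨q, hq, hJq, hdis⟩ := Ideal.exists_le_prime_disjoint (I := J)
      ((nonZeroDivisors (MvPolynomial σ k)).map φ.toRingHom.toMonoidHom) (by
        rw [Set.disjoint_left]
        rintro _ hmem ⟨g, hg, rfl⟩
        exact hall g (nonZeroDivisors.ne_zero hg) hmem)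
    haveI := hq
    let κ := q.ResidueField
    haveI : Algebra.FiniteType k (MvPolynomial σ B) := Algebra.FiniteType.trans (S := B) inferInstance inferInstance
    haveI : Algebra.EssFiniteType k κ := Algebra.EssFiniteType.comp k (MvPolynomial σ B) κ
    let π : (MvPolynomial σ B) →ₐ[k] κ := IsScalarTower.toAlgHom k (MvPolynomial σ B) κ
    have hπ : ∀ z ∈ J, π z = 0 := fun z hz => Ideal.algebraMap_residueField_eq_zero.2 (hJq hz)
    let ψ := π.comp φ
    have hψ : Function.Injective ψ := by
      refine (injective_iff_map_eq_zero ψ).2 fun g hg => ?_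
      by_contra h0
      exact Set.disjoint_left.1 hdis (Ideal.algebraMap_residueField_eq_zero.1 hg)
        ⟨g, mem_nonZeroDivisors_of_ne_zero h0, rfl⟩
    let πB : B →ₐ[k] κ := π.comp (IsScalarTower.toAlgHom k B (MvPolynomial σ B))
    letI : Algebra B κ := πB.toRingHom.toAlgebra
    haveI : IsScalarTower k B κ := IsScalarTower.of_algebraMap_eq' πB.comp_algebraMap.symm
    let T : σ → κ := fun i => π (MvPolynomial.X i)
    have hT : ∀ i, ψ (MvPolynomial.X i) = T i := fun i => by simp [ψ, φ, T]
    have hC : ∀ a : B, π (MvPolynomial.C a) = algebraMap B κ a := fun a => rfl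
    have hG : ∀ j, ∑ i, algebraMap B κ (b.repr (D k B (x i)) j) * T i = 0 := fun j => by
      have := hπ (G j) (Ideal.subset_span (Set.mem_insert_of_mem _ ⟨j, rfl⟩))
      simpa [G, map_sum, map_mul, T, hC] using this
    have hF : ∑ i, algebraMap B κ (x i) * T i = 0 := by
      have := hπ F (Ideal.subset_span (Set.mem_insert _ _))
      simpa [F, map_sum, map_mul, T, hC] using this
    have hdx : ∀ i, D k κ (algebraMap B κ (x i)) =
        ∑ j, algebraMap B κ (b.repr (D k B (x i)) j) • KaehlerDifferential.map k k B κ (b j) := fun i => by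
      rw [← KaehlerDifferential.map_D k k B κ (x i)]
      conv_lhs => rw [← b.sum_repr (D k B (x i))]
      simp only [map_sum, map_smul, algebraMap_smul]
    have hsum : ∑ i, algebraMap B κ (x i) • D k κ (T i) = 0 := by
      have h := congrArg (D k κ) hF
      simp only [map_sum, Derivation.leibniz, map_zero, Finset.sum_add_distrib] at h
      have h2 : ∑ i, T i • D k κ (algebraMap B κ (x i)) = 0 := by
        simp only [hdx, Finset.smul_sum, ← mul_smul]
        rw [Finset.sum_comm]
        refine Finset.sum_eq_zero fun j _ => ?_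
        rw [← Finset.sum_smul]
        simp only [mul_comm (T _), hG j, zero_smul]
      rwa [h2, add_zero] at h
    have hind := linearIndependent_D ψ hψ
    simp only [hT] at hind
    have hzero := Fintype.linearIndependent_iff.1 hind _ hsum
    have h1 : Ideal.span (Set.range x) ≤ RingHom.ker (algebraMap B κ) := by
      rw [Ideal.span_le]
      rintro _ ⟨i, rfl⟩
      exact hzero i
    rw [hx] at h1
    exact one_ne_zero ((map_one (algebraMap B κ)).symm.trans (RingHom.mem_ker.1 (h1 Submodule.mem_top)))
  refine ⟨g, hg0, fun c hc => ?_⟩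
  let e : (MvPolynomial σ B) →ₐ[B] B := MvPolynomial.aeval fun i => algebraMap k B (c i)
  set h := ∑ i, c i • x i with hh
  have heg : e (φ g) = algebraMap k B (MvPolynomial.eval c g) := by
    clear hg hc hg0
    induction g using MvPolynomial.induction_on with
    | C a => simp [e, φ]
    | add p q hp hq => simp only [map_add, hp, hq]
    | mul_X p i hp =>
      simp only [map_mul, hp, MvPolynomial.eval_X]
      simp [e, φ]
  have hle : J.map e.toRingHom ≤ Ideal.span {h} ⊔ diffIdeal k h := by
    rw [Ideal.map_span, Ideal.span_le]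
    rintro _ ⟨z, hz, rfl⟩
    rcases hz with rfl | ⟨j, rfl⟩
    · refine Ideal.mem_sup_left (Ideal.mem_span_singleton.2 (dvd_of_eq ?_))
      simp only [hh, F, Algebra.smul_def, AlgHom.toRingHom_eq_coe, RingHom.coe_coe, map_sum, map_mul]
      refine Finset.sum_congr rfl fun i _ => ?_
      simp [e, mul_comm]
    · refine Ideal.mem_sup_right ?_
      refine (show b.coord j (D k B h) = e (G j) from ?_) ▸ coord_mem_diffIdeal h (b.coord j)
      simp only [hh, G, Module.Basis.coord_apply, map_sum, Finsupp.coe_finsetSum, Finset.sum_apply, map_mul, Derivation.map_smul]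
      refine Finset.sum_congr rfl fun i _ => ?_
      rw [← algebraMap_smul B (c i) (D k B (x i)), map_smul]
      simp [e, mul_comm, Algebra.smul_def]
  rw [Ideal.eq_top_iff_one]
  have hmem := hle (Ideal.mem_map_of_mem e.toRingHom hg)
  change e (φ g) ∈ _ at hmem
  rw [heg] at hmem
  have hu : IsUnit (algebraMap k B (MvPolynomial.eval c g)) := (isUnit_iff_ne_zero.2 hc).map _
  rw [(Ideal.eq_top_of_isUnit_mem _ hmem hu : _ = (⊤ : Ideal B))]
  exact Submodule.mem_top

end Groth.Agent.Growth22.BertLin
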