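import Groth.Agent.Growth22.BertLin.Quot
import Groth.Agent.ZeroSchX.Basic
import Groth.Agent.Lib.CurveDualPrep
import Groth.Prelude.Def_Formal

/-!
# Charts for sections of an invertible module on a smooth scheme over a field
-/

universe u

set_option backward.isDefEq.respectTransparency false
set_option backward.isDefEq.respectTransparency.types false

open CategoryTheory AlgebraicGeometry TopologicalSpace Opposite
open Groth.Agent

namespace Groth.Agent.Growth22.BertLin

variable (k : Type u) [Field k] {Y : Scheme.{u}} [Y.Over (Spec (CommRingCat.of k))]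

/-- The structure map to the sections on an open. -/
noncomputable def kMap (U : Y.Opens) : k →+* Γ(Y, U) :=
  ((Y.presheaf.map (homOfLE (le_top : U ≤ ⊤)).op).hom).comp
    (((Y ↘ Spec (CommRingCat.of k)).appTop).hom.comp (Scheme.ΓSpecIso (CommRingCat.of k)).inv.hom)

/-- The algebra structure on the sections on an open. -/
@[reducible] noncomputable def algU (U : Y.Opens) : Algebra k Γ(Y, U) := (kMap k U).toAlgebra

theorem kMap_res {U V : Y.Opens} (h : V ≤ U) (a : k) :
    Y.presheaf.map (homOfLE h).op (kMap k U a) = kMap k V a := by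
  simp only [kMap, RingHom.comp_apply]
  rw [← ConcreteCategory.comp_apply, ← Y.presheaf.map_comp]
  rfl

theorem appLE_top (V : Y.Opens) :
    ((Y ↘ Spec (CommRingCat.of k)).appLE ⊤ V le_top).hom =
      (kMap k V).comp (Scheme.ΓSpecIso (CommRingCat.of k)).hom.hom := by
  ext a
  simp only [kMap, RingHom.comp_apply]
  rw [Iso.hom_inv_id_apply]
  rfl

theorem smooth_kMap [Smooth (Y ↘ Spec (CommRingCat.of k))] {V : Y.Opens} (hV : IsAffineOpen V) :
    (kMap k V).Smooth := by
  have h := (Y ↘ Spec (CommRingCat.of k)).smooth_appLE (isAffineOpen_top _) hV le_top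
  rw [appLE_top, ← CommRingCat.hom_ofHom (kMap k V), ← CommRingCat.hom_comp] at h
  exact (RingHom.Smooth.propertyIsLocal.respectsIso.cancel_left_isIso
    (Scheme.ΓSpecIso (CommRingCat.of k)).hom (CommRingCat.ofHom (kMap k V))).1 h

/-- A standard smooth affine chart with a frame of an invertible module around every point. -/
theorem exists_chart [Smooth (Y ↘ Spec (CommRingCat.of k))] {L : Y.Modules} (hL : PicF.IsInvertible L) (y : Y) :
    ∃ U : Y.affineOpens, y ∈ (U : Y.Opens) ∧ (kMap k U.1).IsStandardSmooth ∧ ∃ e : Γ(L, U.1), InvX.IsFrame e := by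
  obtain ⟨U₀, hU₀, V, hV, hy, hle, hs⟩ := Smooth.exists_isStandardSmooth (Y ↘ Spec (CommRingCat.of k)) y
  have htop : U₀ = ⊤ := by
    haveI : Subsingleton (PrimeSpectrum k) := inferInstance
    refine eq_top_iff.2 fun p _ => ?_
    rw [Subsingleton.elim p ((Y ↘ Spec (CommRingCat.of k)) y)]
    exact hle hy
  subst htop
  rw [appLE_top, ← CommRingCat.hom_ofHom (kMap k V), ← CommRingCat.hom_comp] at hs
  have hs' := (RingHom.isStandardSmooth_respectsIso.cancel_left_isIso
    (Scheme.ΓSpecIso (CommRingCat.of k)).hom (CommRingCat.ofHom (kMap k V))).1 hs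
  obtain ⟨W, hyW, e, he⟩ := InvX.exists_frame hL y
  obtain ⟨g, hgW, hyg⟩ := hV.exists_basicOpen_le (V := W) ⟨y, hyW⟩ hy
  refine ⟨⟨Y.basicOpen g, hV.basicOpen g⟩, hyg, ?_, _, he.res hgW⟩
  haveI := hV.isLocalization_basicOpen g
  letI := algU k V
  letI := algU (Y := Y) k (Y.basicOpen g)
  haveI : IsScalarTower k Γ(Y, V) Γ(Y, Y.basicOpen g) :=
    IsScalarTower.of_algebraMap_eq fun a => (kMap_res k (Y.basicOpen_le g) a).symm
  haveI : Algebra.IsStandardSmooth k Γ(Y, V) := hs'
  haveI : Algebra.IsStandardSmooth Γ(Y, V) Γ(Y, Y.basicOpen g) := Algebra.IsStandardSmooth.localization_away g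
  exact (Algebra.IsStandardSmooth.trans k Γ(Y, V) Γ(Y, Y.basicOpen g) :
    Algebra.IsStandardSmooth k Γ(Y, Y.basicOpen g))

/-- The scheme cut out by an ideal sheaf is smooth if it is so on charts. -/
theorem smooth_subscheme (I : Y.IdealSheafData)
    (h : ∀ y ∈ I.support, ∃ U : Y.affineOpens, y ∈ (U : Y.Opens) ∧
      ((Ideal.Quotient.mk (I.ideal U)).comp (kMap k U.1)).Smooth) :
    Smooth (I.subschemeι ≫ (Y ↘ Spec (CommRingCat.of k))) := by
  rw [HasRingHomProperty.iff_exists_appLE (P := @Smooth)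
    (RingHom.Smooth.stableUnderComposition.stableUnderCompositionWithLocalizationAway
      RingHom.Smooth.holdsForLocalizationAway).1]
  intro z
  have hz : I.subschemeι z ∈ I.support := by
    have := Set.mem_range_self (f := I.subschemeι) z
    rwa [Scheme.IdealSheafData.range_subschemeι] at this
  obtain ⟨U, hzU, hU⟩ := h _ hz
  refine ⟨⟨⊤, isAffineOpen_top _⟩, ⟨I.subschemeι ⁻¹ᵁ U.1, U.2.preimage I.subschemeι⟩, hzU, le_top, ?_⟩
  let ρ := (I.subschemeι.app U.1).hom
  let e := RingHom.quotientKerEquivOfSurjective (f := ρ) (I.subschemeι.app_surjective U.1 U.2)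
  let e' : Γ(Y, U.1) ⧸ I.ideal U ≃+* Γ(I.subscheme, I.subschemeι ⁻¹ᵁ U.1) :=
    (Ideal.quotEquivOfEq (I.ker_subschemeι_app U).symm).trans e
  have h1 := RingHom.Smooth.propertyIsLocal.respectsIso.1 _ e' hU
  have h2 := RingHom.Smooth.propertyIsLocal.respectsIso.2 _ (Scheme.ΓSpecIso (CommRingCat.of k)).commRingCatIsoToRingEquiv h1
  convert h2 using 1
  rw [← Scheme.Hom.appLE_comp_appLE I.subschemeι (Y ↘ Spec (CommRingCat.of k)) ⊤ U.1 _ le_top le_rfl,
    CommRingCat.hom_comp, appLE_top, Scheme.Hom.appLE_eq_app]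
  rfl

variable {k} {L : Y.Modules}

theorem sv_add (s t : Coh.structureModule Y ⟶ L) (U : Y.Opens) :
    ZeroSchX.sv (s + t) U = ZeroSchX.sv s U + ZeroSchX.sv t U := rfl

/-- Evaluation on an open, as an additive map. -/
noncomputable def svHom (U : Y.Opens) : (Coh.structureModule Y ⟶ L) →+ Γ(L, U) :=
  AddMonoidHom.mk' (fun s => ZeroSchX.sv s U) fun s t => sv_add s t U

theorem sv_smulMod (c : k) (s : Coh.structureModule Y ⟶ L) (U : Y.Opens) :
    ZeroSchX.sv (Formal.smulMod k (Coh.structureModule Y) c ≫ s) U = kMap k U c • ZeroSchX.sv s U :=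
  (s.val.app (op U)).hom.map_smul (Coh.resTop Y (op U) (Coh.toGlobal (Y ↘ Spec (CommRingCat.of k)) c))
    (1 : Y.ringCatSheaf.obj.obj (op U))

/-- The coordinate of a linear combination. -/
theorem sv_combination {σ : Type*} [Fintype σ] (s : σ → (Coh.structureModule Y ⟶ L)) (c : σ → k) (U : Y.Opens)
    {e : Γ(L, U)} (x : σ → Γ(Y, U)) (hx : ∀ i, ZeroSchX.sv (s i) U = x i • e) :
    ZeroSchX.sv (∑ i, Formal.smulMod k (Coh.structureModule Y) (c i) ≫ s i) U = (∑ i, kMap k U (c i) * x i) • e := by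
  show svHom U _ = _
  rw [map_sum, Finset.sum_smul]
  refine Finset.sum_congr rfl fun i _ => ?_
  simp only [svHom, AddMonoidHom.mk'_apply]
  rw [sv_smulMod, hx, mul_smul]

/-- Assembling generic smoothness from charts. -/
theorem exists_poly_smooth [Infinite k] [Smooth (Y ↘ Spec (CommRingCat.of k))]
    [QuasiCompact (Y ↘ Spec (CommRingCat.of k))] (hL : PicF.IsInvertible L) {σ : Type}
    (t : (σ → k) → (Coh.structureModule Y ⟶ L))
    (hchart : ∀ (U : Y.affineOpens), letI := algU k U.1; Algebra.IsStandardSmooth k Γ(Y, U.1) →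
      ∀ e : Γ(L, U.1), InvX.IsFrame e →
      ∃ p : MvPolynomial σ k, p ≠ 0 ∧ ∀ c : σ → k, MvPolynomial.eval c p ≠ 0 →
        ∀ h : Γ(Y, U.1), ZeroSchX.sv (t c) U.1 = h • e →
          Ideal.span {h} ⊔ diffIdeal k h = ⊤) :
    ∃ p : MvPolynomial σ k, p ≠ 0 ∧ ∀ c : σ → k, MvPolynomial.eval c p ≠ 0 →
      Smooth ((PicF2.zeroScheme L (t c)).subschemeι ≫ (Y ↘ Spec (CommRingCat.of k))) := by
  classical
  choose U hyU hstd e he using exists_chart k hL
  choose p hp0 hp using fun y : Y => hchart (U y) (hstd y) (e y) (he y)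
  haveI : CompactSpace Y := QuasiCompact.compactSpace_of_compactSpace (Y ↘ Spec (CommRingCat.of k))
  obtain ⟨S, hS⟩ := isCompact_univ.elim_finite_subcover (fun y : Y => ((U y).1 : Set Y))
    (fun y => (U y).1.isOpen) fun y _ => Set.mem_iUnion.2 ⟨y, hyU y⟩
  refine ⟨∏ y ∈ S, p y, Finset.prod_ne_zero_iff.2 fun y _ => hp0 y, fun c hc => ?_⟩
  rw [map_prod, Finset.prod_ne_zero_iff] at hc
  refine smooth_subscheme k _ fun z _ => ?_
  obtain ⟨y, hyS, hz⟩ := Set.mem_iUnion₂.1 (hS (Set.mem_univ z))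
  refine ⟨U y, hz, ?_⟩
  obtain ⟨h, hh⟩ := (he y).exists_coord le_rfl (ZeroSchX.sv (t c) (U y).1)
  rw [AModX.res_self] at hh
  rw [ZeroSchX.ideal_zeroScheme hL, ZeroSchX.zeroIdealOn_eq_span _ (he y) hh]
  letI := algU k (U y).1
  haveI : Algebra.IsStandardSmooth k Γ(Y, (U y).1) := hstd y
  haveI := smooth_quotient h (hp y c (hc y hyS) h hh)
  exact RingHom.smooth_algebraMap.2 ‹Algebra.Smooth k (Γ(Y, (U y).1) ⧸ Ideal.span {h})›

end Groth.Agent.Growth22.BertLin
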