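import Groth.Agent.Growth22.BertLin.Quot
import Groth.Agent.BertiniAff.Bad

/-!
# Generic members of a linear system separating first order jets
-/

open TensorProduct KaehlerDifferential MvPolynomial

universe u

namespace Groth.Agent.Growth22.BertLin

variable {k : Type u} [Field k] [Infinite k]

/-- A polynomial vanishing on a cone can be dehomogenised. -/
theorem exists_dehom {τ : Type u} (g : MvPolynomial (Option τ) k) (hg : g ≠ 0) :
    ∃ q : MvPolynomial τ k, q ≠ 0 ∧ ∀ c : τ → k,
      (∀ l : k, MvPolynomial.eval (fun o => l * o.elim 1 c) g = 0) → MvPolynomial.eval c q = 0 := by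
  classical
  obtain ⟨e, he⟩ : ∃ e, MvPolynomial.homogeneousComponent e g ≠ 0 := by
    by_contra! h
    exact hg (by rw [← MvPolynomial.sum_homogeneousComponent g]; exact Finset.sum_eq_zero fun i _ => h i)
  let sub : Option τ → MvPolynomial τ k := fun o => o.elim 1 MvPolynomial.X
  have hsub : ∀ (c : τ → k) (p : MvPolynomial (Option τ) k),
      MvPolynomial.eval c (MvPolynomial.aeval sub p) = MvPolynomial.eval (fun o => o.elim 1 c) p := fun c p => by
    rw [← MvPolynomial.aeval_eq_eval c, ← AlgHom.comp_apply, MvPolynomial.comp_aeval, ← MvPolynomial.aeval_eq_eval]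
    congr 2
    funext o
    cases o <;> simp [sub]
  have hscale : ∀ (a : Option τ → k) (l : k) (p : MvPolynomial (Option τ) k) (d : ℕ), p.IsHomogeneous d →
      MvPolynomial.eval (fun o => l * a o) p = l ^ d * MvPolynomial.eval a p := fun a l p d hp => by
    rw [MvPolynomial.eval_eq, MvPolynomial.eval_eq, Finset.mul_sum]
    refine Finset.sum_congr rfl fun x hx => ?_
    have hd : ∑ o ∈ x.support, x o = d := by
      simpa [Finsupp.weight_apply, Finsupp.sum] using hp (MvPolynomial.mem_support_iff.1 hx)
    simp only [mul_pow, Finset.prod_mul_distrib, Finset.prod_pow_eq_pow_sum, hd]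
    ring
  refine ⟨MvPolynomial.aeval sub (MvPolynomial.homogeneousComponent e g), fun h0 => he ?_, fun c hc => ?_⟩
  · refine MvPolynomial.funext fun a => ?_
    rw [map_zero]
    -- the component vanishes where the extra coordinate is nonzero
    have key : ∀ b : Option τ → k, b none ≠ 0 → MvPolynomial.eval b (MvPolynomial.homogeneousComponent e g) = 0 := by
      intro b hb
      have h1 := hsub (fun i => b (some i) / b none) (MvPolynomial.homogeneousComponent e g)
      rw [h0, map_zero] at h1
      have h2 : b = fun o => b none * o.elim (1 : k) fun i => b (some i) / b none := by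
        funext o
        cases o with
        | none => simp
        | some i => simp [mul_div_cancel₀ _ hb]
      rw [h2, hscale _ _ _ e (MvPolynomial.homogeneousComponent_isHomogeneous e g), ← h1, mul_zero]
    have hprod : MvPolynomial.X none * MvPolynomial.homogeneousComponent e g = 0 := by
      refine MvPolynomial.funext fun b => ?_
      rw [map_mul, MvPolynomial.eval_X, map_zero]
      by_cases hb : b none = 0
      · rw [hb, zero_mul]
      · rw [key b hb, mul_zero]
    rw [(mul_eq_zero.1 hprod).resolve_left (MvPolynomial.X_ne_zero none), map_zero]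
  · rw [hsub]
    let p : Polynomial k := ∑ i ∈ Finset.range (g.totalDegree + 1),
      Polynomial.C (MvPolynomial.eval (fun o => o.elim 1 c) (MvPolynomial.homogeneousComponent i g)) * Polynomial.X ^ i
    have hp : p = 0 := Polynomial.funext fun l => by
      rw [Polynomial.eval_zero, ← hc l]
      conv_rhs => rw [← MvPolynomial.sum_homogeneousComponent g, map_sum]
      simp only [p, Polynomial.eval_finsetSum]
      refine Finset.sum_congr rfl fun i _ => ?_
      rw [hscale _ _ _ i (MvPolynomial.homogeneousComponent_isHomogeneous i g)]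
      rw [Polynomial.eval_mul, Polynomial.eval_C, Polynomial.eval_pow, Polynomial.eval_X, mul_comm]
    by_cases hle : g.totalDegree < e
    · exact absurd (MvPolynomial.homogeneousComponent_eq_zero e g hle) he
    have := congrArg (fun r => Polynomial.coeff r e) hp
    simp only [p, Polynomial.finset_sum_coeff, Polynomial.coeff_C_mul_X_pow, Polynomial.coeff_zero] at this
    rwa [Finset.sum_ite_eq, if_pos (Finset.mem_range.2 (by omega))] at this

variable {B : Type u} [CommRing B] [Algebra k B] [Algebra.FiniteType k B]

/-- Jets at all maximal ideals are spanned, so values and differentials generate. -/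
theorem span_jets_eq_top [Module.Finite B Ω[B⁄k]] {σ : Type u} [Fintype σ] (x : σ → B)
    (hjet : ∀ v : Ideal B, v.IsMaximal → ∀ l : B, ∃ c : σ → k, (∑ i, c i • x i) - l ∈ v ^ 2) :
    Submodule.span B (Set.range fun i => ((x i, D k B (x i)) : B × Ω[B⁄k])) = ⊤ := by
  set S := Submodule.span B (Set.range fun i => ((x i, D k B (x i)) : B × Ω[B⁄k])) with hS
  by_contra hne
  let I : Ideal B := (⊤ : Submodule B ((B × Ω[B⁄k]) ⧸ S)).annihilator
  have hI : I ≠ ⊤ := fun h => hne (by
    have h1 : ∀ z : (B × Ω[B⁄k]) ⧸ S, z = 0 := fun z => by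
      simpa using (Submodule.mem_annihilator.1 (h ▸ Submodule.mem_top : (1 : B) ∈ I)) z Submodule.mem_top
    exact Submodule.eq_top_iff'.2 fun z => (Submodule.Quotient.mk_eq_zero S).1 (h1 _))
  obtain ⟨v, hv, hIv⟩ := Ideal.exists_le_maximal I hI
  have hle : (⊤ : Submodule B ((B × Ω[B⁄k]) ⧸ S)) ≤ v • ⊤ := by
    let N : Submodule B (B × Ω[B⁄k]) := S ⊔ v • ⊤
    have hJ : ∀ l : B, ((l, D k B l) : B × Ω[B⁄k]) ∈ N := fun l => by
      obtain ⟨c, hc⟩ := hjet v hv l
      have h1 : ((∑ i, c i • x i, D k B (∑ i, c i • x i)) : B × Ω[B⁄k]) ∈ S := by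
        rw [show ((∑ i, c i • x i, D k B (∑ i, c i • x i)) : B × Ω[B⁄k]) =
          ∑ i, algebraMap k B (c i) • ((x i, D k B (x i)) : B × Ω[B⁄k]) from Prod.ext
            (by simp [Prod.fst_sum, Algebra.smul_def]) (by simp [Prod.snd_sum, map_sum, algebraMap_smul])]
        exact Submodule.sum_mem _ fun i _ => Submodule.smul_mem _ _ (Submodule.subset_span ⟨i, rfl⟩)
      have h2 : ∀ w ∈ v ^ 2, ((w, D k B w) : B × Ω[B⁄k]) ∈ v • (⊤ : Submodule B (B × Ω[B⁄k])) := by
        intro w hw
        rw [pow_two] at hw
        refine Submodule.mul_induction_on hw (fun a ha b hb => ?_) fun a b ha hb => ?_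
        · have : ((a * b, D k B (a * b)) : B × Ω[B⁄k]) = a • (b, D k B b) + b • (0, D k B a) := by
            ext <;> simp [Derivation.leibniz]
          rw [this]
          exact add_mem (Submodule.smul_mem_smul ha trivial) (Submodule.smul_mem_smul hb trivial)
        · rw [map_add, ← Prod.mk_add_mk]; exact add_mem ha hb
      have h3 := sub_mem (Submodule.mem_sup_left (T := v • ⊤) h1) (Submodule.mem_sup_right (S := S) (h2 _ hc))
      convert h3 using 1
      simp
    have hN : N = ⊤ := by
      have h1 : ((1, 0) : B × Ω[B⁄k]) ∈ N := by simpa using hJ 1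
      have h2 : ∀ ω : Ω[B⁄k], ((0, ω) : B × Ω[B⁄k]) ∈ N := by
        intro ω
        have hω : ω ∈ Submodule.span B (Set.range (D k B)) := by rw [KaehlerDifferential.span_range_derivation]; trivial
        induction hω using Submodule.span_induction with
        | mem _ h =>
          obtain ⟨l, rfl⟩ := h
          have := sub_mem (hJ l) (N.smul_mem l h1)
          simpa using this
        | zero => exact N.zero_mem
        | add a b _ _ ha hb => simpa using add_mem ha hb
        | smul a z _ hz => simpa using N.smul_mem a hz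
      refine Submodule.eq_top_iff'.2 fun z => ?_
      have := add_mem (N.smul_mem z.1 h1) (h2 z.2)
      simpa using this
    intro z _
    obtain ⟨w, rfl⟩ := Submodule.mkQ_surjective S z
    obtain ⟨a, ha, b, hb, hab⟩ := Submodule.mem_sup.1 (show w ∈ N by rw [hN]; trivial)
    rw [← hab]
    rw [map_add, Submodule.mkQ_apply S a, (Submodule.Quotient.mk_eq_zero S).2 ha, zero_add]
    have := Submodule.mem_map_of_mem (f := S.mkQ) hb
    rw [Submodule.map_smul'', Submodule.map_top, Submodule.range_mkQ] at this
    exact this
  obtain ⟨r, hr, hr0⟩ := Submodule.exists_sub_one_mem_and_smul_eq_zero_of_fg_of_le_smul v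
    (⊤ : Submodule B ((B × Ω[B⁄k]) ⧸ S)) Module.Finite.fg_top hle
  exact hv.ne_top ((Ideal.eq_top_iff_one _).2 (by
    simpa using sub_mem (hIv (Submodule.mem_annihilator.2 hr0)) hr))

/-- For linear systems spanning all first order jets, the general member of an affine translate is transversal. -/
theorem exists_poly_of_jets {ι : Type u} [Fintype ι] (b : Module.Basis ι B Ω[B⁄k])
    (hdim : ringKrullDim B ≤ Fintype.card ι) {σ : Type u} [Fintype σ] (x : σ → B) (f : B)
    (hjet : ∀ v : Ideal B, v.IsMaximal → ∀ l : B, ∃ c : σ → k, (∑ i, c i • x i) - l ∈ v ^ 2) :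
    ∃ q : MvPolynomial σ k, q ≠ 0 ∧ ∀ c : σ → k, MvPolynomial.eval c q ≠ 0 →
      Ideal.span {f + ∑ i, c i • x i} ⊔ diffIdeal k (f + ∑ i, c i • x i) = ⊤ := by
  classical
  haveI : Module.Finite B Ω[B⁄k] := Module.Finite.of_basis b
  let y : Option σ → B := fun o => o.elim f x
  let M : Matrix (Option ι) (Option σ) B := fun j i =>
    j.elim (y i) fun l => b.repr (D k B (y i)) l
  have hM : ∀ (a : Option σ → B) (j : Option ι), Matrix.mulVec M a j =
      ∑ i, a i * j.elim (y i) fun l => b.repr (D k B (y i)) l := fun a j => by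
    simp [Matrix.mulVec, dotProduct, M, mul_comm]
  have hsurj : Function.Surjective M.mulVec := by
    intro z
    have hw : ((z none, ∑ l, z (some l) • b l) : B × Ω[B⁄k]) ∈
        Submodule.span B (Set.range fun i => ((x i, D k B (x i)) : B × Ω[B⁄k])) := by
      rw [span_jets_eq_top x hjet]; trivial
    obtain ⟨a, ha⟩ := (Submodule.mem_span_range_iff_exists_fun B).1 hw
    refine ⟨fun i => i.elim 0 a, funext fun j => ?_⟩
    rw [hM, Fintype.sum_option]
    cases j with
    | none =>
      have := congrArg Prod.fst ha
      simpa [Prod.fst_sum, y] using this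
    | some l =>
      have := congrArg (fun w : B × Ω[B⁄k] => b.repr w.2 l) ha
      simpa [Prod.snd_sum, y, Finsupp.single_apply] using this
  obtain ⟨N, hN⟩ := Matrix.mulVec_surjective_iff_exists_right_inverse.1 hsurj
  obtain ⟨g, hg0, hg⟩ := BertiniAff.exists_ne_zero_eval (k := k) (Fintype.card ι) hdim (Option ι) (Option σ)
    (by simp) M N hN
  obtain ⟨q, hq0, hq⟩ := exists_dehom g hg0
  refine ⟨q, hq0, fun c hc => ?_⟩
  set h := f + ∑ i, c i • x i with hh
  by_contra hne
  obtain ⟨v, hv, hle⟩ := Ideal.exists_le_maximal _ hne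
  haveI := hv.isPrime
  refine hc (hq c fun l => hg _ v.ResidueField (IsScalarTower.toAlgHom k B _) (funext fun j => ?_))
  let aB : Option σ → B := fun o => algebraMap k B (l * o.elim 1 c)
  have hvec : ∀ j, Matrix.mulVec M aB j ∈ v := by
    intro j
    rw [hM]
    cases j with
    | none =>
      have : ∑ i, aB i * (none : Option ι).elim (y i) (fun l => b.repr (D k B (y i)) l) = algebraMap k B l * h := by
        simp [hh, aB, y, Algebra.smul_def, mul_add, Finset.mul_sum, mul_assoc]
      rw [this]
      exact Ideal.mul_mem_left _ _ (hle (Ideal.mem_sup_left (Ideal.mem_span_singleton_self h)))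
    | some j =>
      have : ∑ i, aB i * (some j).elim (y i) (fun l => b.repr (D k B (y i)) l) = algebraMap k B l * b.coord j (D k B h) := by
        simp only [hh, map_add, map_sum, Derivation.map_smul, ← algebraMap_smul B (c _), map_smul]
        simp [aB, y, mul_add, Finset.mul_sum, mul_assoc, Algebra.smul_def]
      rw [this]
      exact Ideal.mul_mem_left _ _ (hle (Ideal.mem_sup_right (coord_mem_diffIdeal h _)))
  have h2 := RingHom.map_mulVec (IsScalarTower.toAlgHom k B v.ResidueField).toRingHom M aB j
  have h3 : (IsScalarTower.toAlgHom k B v.ResidueField).toRingHom (Matrix.mulVec M aB j) = 0 :=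
    Ideal.algebraMap_residueField_eq_zero.2 (hvec j)
  rw [h3] at h2
  refine Eq.trans ?_ h2.symm
  refine congrArg (fun w => Matrix.mulVec (M.map (IsScalarTower.toAlgHom k B v.ResidueField)) w j) (funext fun i => ?_)
  exact ((IsScalarTower.toAlgHom k B v.ResidueField).commutes _).symm

end Groth.Agent.Growth22.BertLin
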