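import Mathlib

/-!
# Smoothness of a hypersurface with nowhere vanishing differential
-/

open TensorProduct KaehlerDifferential

universe u

namespace Groth.Agent.Growth22.BertLin

variable {k B : Type u} [CommRing k] [CommRing B] [Algebra k B]

/-- The ideal of values of functionals at the differential of `h`. -/
noncomputable def diffIdeal (k : Type u) {B : Type u} [CommRing k] [CommRing B] [Algebra k B] (h : B) : Ideal B :=
  LinearMap.range (LinearMap.applyₗ (R := B) (M₂ := B) (D k B h))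

theorem coord_mem_diffIdeal (h : B) (φ : Ω[B⁄k] →ₗ[B] B) : φ (D k B h) ∈ diffIdeal k h :=
  ⟨φ, rfl⟩

/-- A hypersurface `h` in a formally smooth algebra such that `h` and the values at `dh` generate the unit ideal
is formally smooth. -/
theorem formallySmooth_quotient [Algebra.FormallySmooth k B] (h : B)
    (hW : Ideal.span {h} ⊔ diffIdeal k h = ⊤) :
    Algebra.FormallySmooth k (B ⧸ Ideal.span {h}) := by
  obtain ⟨p, hp, q, ⟨φ, rfl⟩, hpq⟩ := Submodule.mem_sup.1 ((Ideal.eq_top_iff_one _).1 hW)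
  obtain ⟨a, rfl⟩ := Ideal.mem_span_singleton'.1 hp
  have hφ : φ (D k B h) = 1 - a * h := eq_sub_of_add_eq' hpq
  have hs : Function.Surjective (algebraMap B (B ⧸ Ideal.span {h})) := Ideal.Quotient.mk_surjective
  let I := RingHom.ker (algebraMap B (B ⧸ Ideal.span {h}))
  have hI : h ∈ I := Ideal.Quotient.eq_zero_iff_mem.2 (Ideal.mem_span_singleton_self h)
  let hb : I.Cotangent := I.toCotangent ⟨h, hI⟩
  have hhb : ∀ b ∈ I, b • hb = 0 := fun b hb' => by
    rw [← map_smul, Ideal.toCotangent_eq_zero, pow_two]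
    exact Ideal.mul_mem_mul hb' hI
  let μ : (B ⧸ Ideal.span {h}) →ₗ[B] I.Cotangent :=
    Submodule.liftQ (Ideal.span {h}) (LinearMap.toSpanSingleton B _ hb) fun b hb' => by
      rw [LinearMap.mem_ker, LinearMap.toSpanSingleton_apply]
      exact hhb b (Ideal.Quotient.eq_zero_iff_mem.2 hb')
  let l : (B ⧸ Ideal.span {h}) ⊗[B] Ω[B⁄k] →ₗ[B] I.Cotangent :=
    μ ∘ₗ (TensorProduct.rid B (B ⧸ Ideal.span {h})).toLinearMap ∘ₗ φ.lTensor _
  refine (Algebra.FormallySmooth.iff_split_injection (P := B) hs).2 ⟨l, ?_⟩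
  refine LinearMap.ext fun z => ?_
  obtain ⟨⟨z, hz⟩, rfl⟩ := Ideal.toCotangent_surjective _ z
  rw [LinearMap.comp_apply, kerCotangentToTensor_toCotangent]
  have hz' := hz
  rw [Ideal.Quotient.algebraMap_eq, Ideal.mk_ker, Ideal.mem_span_singleton'] at hz'
  obtain ⟨b, rfl⟩ := hz'
  show μ (φ (D k B (b * h)) • (1 : B ⧸ Ideal.span {h})) = _
  rw [map_smul, Derivation.leibniz, map_add, map_smul, map_smul, hφ, smul_eq_mul, smul_eq_mul,
    LinearMap.id_apply]
  show (b * (1 - a * h) + h * φ (D k B b)) • ((1 : B) • hb) = _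
  rw [one_smul, mul_sub, mul_one, add_smul, sub_smul, hhb _ (Ideal.mul_mem_left _ b (Ideal.mul_mem_left _ a hI)),
    hhb _ (Ideal.mul_mem_right _ _ hI), sub_zero, add_zero, ← map_smul]
  rfl

theorem smooth_quotient [Algebra.Smooth k B] (h : B) (hW : Ideal.span {h} ⊔ diffIdeal k h = ⊤) :
    Algebra.Smooth k (B ⧸ Ideal.span {h}) :=
  ⟨formallySmooth_quotient h hW, Algebra.FinitePresentation.quotient ⟨{h}, by simp⟩⟩

end Groth.Agent.Growth22.BertLin
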